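import Groth.Agent.FlatMorAIC.Scheme
import Groth.Agent.H8Lim.IntegralApprox
import Mathlib.AlgebraicGeometry.AffineTransitionLimit
import Mathlib.CategoryTheory.Limits.Constructions.Over.Connected

/-!
# A finite surjection trivialising an fppf cover of a qcqs scheme
-/

universe u

set_option autoImplicit false
set_option backward.isDefEq.respectTransparency false

open CategoryTheory Opposite AlgebraicGeometry Limits

namespace Groth.Agent.FlatMorAIC

variable {S S' : Scheme.{u}} (g : S' ⟶ S) [LocallyOfFinitePresentation g]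

/-- Liftings on opens of a limit descend to a stage. -/
theorem exists_stage_lift {I : Type u} [Category.{u} I] [IsCofiltered I] [Quiver.IsThin I] (D : I ⥤ Scheme.{u})
    (c : Cone D) (hc : IsLimit c) (t : D ⟶ (Functor.const I).obj S) [∀ {i j} (f : i ⟶ j), IsAffineHom (D.map f)]
    [∀ i, CompactSpace (D.obj i)] [∀ i, QuasiSeparatedSpace (D.obj i)]
    (p : c.pt ⟶ S) (hp : ∀ i, c.π.app i ≫ t.app i = p)
    (hlift : ∀ x : c.pt, ∃ (V : c.pt.Opens) (r : ↑V ⟶ S'), x ∈ V ∧ r ≫ g = V.ι ≫ p) :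
    ∃ i : I, ∀ y : D.obj i, ∃ (V : (D.obj i).Opens) (r : ↑V ⟶ S'), y ∈ V ∧ r ≫ g = V.ι ≫ t.app i := by
  classical
  have := Scheme.compactSpace_of_isLimit D c hc
  have key : ∀ x : c.pt, ∃ (W : c.pt.Opens) (r : ↑W ⟶ S'), IsAffineOpen W ∧ x ∈ W ∧ r ≫ g = W.ι ≫ p := by
    intro x
    obtain ⟨V, r, hxV, hr⟩ := hlift x
    obtain ⟨_, ⟨W, hW, rfl⟩, hxW, hWV⟩ := c.pt.isBasis_affineOpens.exists_subset_of_mem_open
      (show x ∈ (V : Set c.pt) from hxV) V.isOpen
    exact ⟨W, c.pt.homOfLE hWV ≫ r, hW, hxW, by rw [Category.assoc, hr, Scheme.homOfLE_ι_assoc]⟩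
  choose W r hW hxW hr using key
  obtain ⟨F, hF⟩ := isCompact_univ.elim_finite_subcover (fun x => (W x : Set c.pt))
    (fun x => (W x).isOpen) fun x _ => Set.mem_iUnion.2 ⟨x, hxW x⟩
  choose i₀ U₀ hU₀ hW₀ using fun x => exists_preimage_eq D c hc (W x) (hW x).isCompact
  obtain ⟨i, hi⟩ := IsCofiltered.inf_objs_exists (F.image i₀)
  let a : ∀ x : {x // x ∈ F}, i ⟶ i₀ x.1 := fun x => (hi (Finset.mem_image_of_mem _ x.2)).some
  let U : {x // x ∈ F} → (D.obj i).Opens := fun x => D.map (a x) ⁻¹ᵁ U₀ x.1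
  have hUW : ∀ x, c.π.app i ⁻¹ᵁ U x = W x.1 := fun x => by
    rw [← Scheme.Hom.comp_preimage, c.w, hW₀]
  have hUc : ∀ x, IsCompact (U x : Set (D.obj i)) := fun x =>
    (D.map (a x)).isCompact_preimage (hU₀ x.1)
  obtain ⟨j, φ, hj⟩ := exists_map_eq_top D c hc (⨆ x, U x) (i := i) (by
    rw [Scheme.Hom.preimage_iSup, eq_top_iff]
    intro y _
    obtain ⟨x, hx⟩ := Set.mem_iUnion.1 (hF (Set.mem_univ y))
    obtain ⟨hxF, hyx⟩ := Set.mem_iUnion.1 hx
    exact TopologicalSpace.Opens.mem_iSup.2 ⟨⟨x, hxF⟩, by rw [hUW]; exact hyx⟩)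
  -- descend each lift
  have hstage : ∀ x : {x // x ∈ F}, ∃ (k : Over i) (s : ↑(D.map k.hom ⁻¹ᵁ U x) ⟶ S'),
      s ≫ g = (D.map k.hom ⁻¹ᵁ U x).ι ≫ t.app k.left := by
    intro x
    have (k : Over i) : CompactSpace ((opensDiagram D i (U x)).obj k) :=
      isCompact_iff_compactSpace.1 ((D.map k.hom).isCompact_preimage (hUc x))
    have (k : Over i) : QuasiSeparatedSpace ((opensDiagram D i (U x)).obj k) :=
      QuasiSeparatedSpace.of_isOpenEmbedding (D.map k.hom ⁻¹ᵁ U x).ι.isOpenEmbedding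
    let e : (c.π.app i ⁻¹ᵁ U x : c.pt.Opens).toScheme ⟶ (W x.1).toScheme :=
      (c.pt.isoOfEq (hUW x)).hom
    obtain ⟨k, s, -, hs⟩ := Scheme.exists_π_app_comp_eq_of_locallyOfFinitePresentation
      (opensDiagram D i (U x))
      { app := fun k => (D.map k.hom ⁻¹ᵁ U x).ι ≫ t.app k.left
        naturality := fun k l f => by
          simp only [opensDiagram_map, Functor.const_obj_map,
            Scheme.Hom.resLE_comp_ι_assoc]
          exact congrArg (_ ≫ ·) ((t.naturality f.left).trans (Category.comp_id _)) }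
      g (opensCone D c i (U x)) (isLimitOpensCone D c hc i (U x)) (e ≫ r x.1) (by
        ext k : 2
        simp only [NatTrans.comp_app, opensCone_π_app, Scheme.Hom.resLE_comp_ι_assoc, hp,
          Functor.const_map_app, Category.assoc, hr, e, Scheme.isoOfEq_hom_ι_assoc])
    exact ⟨k, s, hs⟩
  choose k s hs using hstage
  obtain ⟨m, hm⟩ := IsCofiltered.inf_objs_exists (insert j (Finset.univ.image fun x => (k x).left))
  let bj : m ⟶ j := (hm (Finset.mem_insert_self _ _)).some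
  refine ⟨m, fun y => ?_⟩
  obtain ⟨x, hx⟩ : ∃ x, D.map φ (D.map bj y) ∈ U x := by
    have := hj.ge (Set.mem_univ (D.map bj y))
    exact TopologicalSpace.Opens.mem_iSup.1 this
  let bk : m ⟶ (k x).left :=
    (hm (Finset.mem_insert_of_mem (Finset.mem_image_of_mem _ (Finset.mem_univ x)))).some
  have hcomm : bk ≫ (k x).hom = bj ≫ φ := Subsingleton.elim _ _
  refine ⟨D.map bk ⁻¹ᵁ D.map (k x).hom ⁻¹ᵁ U x, (D.map bk).resLE _ _ le_rfl ≫ s x, ?_, ?_⟩
  · show D.map (k x).hom (D.map bk y) ∈ U x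
    rw [← Scheme.Hom.comp_apply, ← D.map_comp, hcomm, D.map_comp]
    exact hx
  · rw [Category.assoc, hs, Scheme.Hom.resLE_comp_ι_assoc]
    exact congrArg (_ ≫ ·) ((t.naturality bk).trans (Category.comp_id _))

/-- An fppf cover of a qcqs scheme has local sections over a finite finitely presented surjection. -/
theorem exists_finite_lift [Flat g] [Surjective g] [CompactSpace S] [QuasiSeparatedSpace S] :
    ∃ (T : Scheme.{u}) (π : T ⟶ S), Surjective π ∧ IsFinite π ∧ LocallyOfFinitePresentation π ∧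
      ∀ y : T, ∃ (V : T.Opens) (h : ↑V ⟶ S'), y ∈ V ∧ h ≫ g = V.ι ≫ π := by
  obtain ⟨I, _, _, _, D, c, hc, hD, ⟨e⟩⟩ :=
    H8Lim.exists_limit_integral_finitePresentation (toBase S)
  let D' : Iᵒᵖ ⥤ Scheme.{u} := D ⋙ Over.forget S
  have (i : Iᵒᵖ) : IsFinite (D.obj i).hom := (hD i).1
  have (i : Iᵒᵖ) : CompactSpace (D'.obj i) :=
    QuasiCompact.compactSpace_of_compactSpace (D.obj i).hom
  have (i : Iᵒᵖ) : QuasiSeparatedSpace (D'.obj i) :=
    quasiSeparatedSpace_of_quasiSeparated (D.obj i).hom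
  have hta : ∀ {i j : Iᵒᵖ} (f : i ⟶ j), IsAffineHom (D'.map f) := fun {i j} f => by
    have : IsAffineHom ((D.map f).left ≫ (D.obj j).hom) := by rw [Over.w]; infer_instance
    exact IsAffineHom.of_comp (D.map f).left (D.obj j).hom
  have : IsConnected Iᵒᵖ := IsCofiltered.isConnected _
  obtain ⟨i, hi⟩ := exists_stage_lift g D' ((Over.forget S).mapCone c)
    (isLimitOfPreserves (Over.forget S) hc)
    { app := fun i => (D.obj i).hom
      naturality := fun i j f => (Over.w (D.map f)).trans (Category.comp_id _).symm }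
    c.pt.hom (fun i => Over.w (c.π.app i)) (fun x => by
      obtain ⟨V, r, hxV, hr⟩ := exists_lift g (e.hom.left x)
      refine ⟨e.hom.left ⁻¹ᵁ V, e.hom.left ∣_ V ≫ r, hxV, ?_⟩
      rw [Category.assoc, hr, morphismRestrict_ι_assoc]
      exact congrArg (_ ≫ ·) (Over.w e.hom))
  refine ⟨D'.obj i, (D.obj i).hom, ⟨fun s => ?_⟩, (hD i).1, (hD i).2, hi⟩
  obtain ⟨x, hx⟩ := Surjective.surj (f := toBase S) s
  refine ⟨(c.π.app i).left (e.inv.left x), ?_⟩
  show (((e.inv.left ≫ (c.π.app i).left) ≫ (D.obj i).hom) : _ ⟶ S) x = s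
  rw [Category.assoc, Over.w (c.π.app i)]
  exact (congrArg (fun q : _ ⟶ S => q x) (Over.w e.inv)).trans hx

end Groth.Agent.FlatMorAIC
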