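import Groth.Agent.FlatMorAIC.Local
import Mathlib.AlgebraicGeometry.Morphisms.Integral
import Mathlib.AlgebraicGeometry.ResidueField
import Mathlib.AlgebraicGeometry.Sites.SmallAffineZariski
import Mathlib.AlgebraicGeometry.Normalization
import Mathlib.FieldTheory.IsAlgClosed.AlgebraicClosure
import Mathlib.RingTheory.Smooth.IntegralClosure
import Mathlib.Algebra.Group.Pi.Units

/-!
# The integral closure of a scheme in the product of its algebraically closed points
-/

universe u

set_option autoImplicit false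
set_option backward.isDefEq.respectTransparency false

open CategoryTheory Opposite AlgebraicGeometry AlgebraicGeometry.Scheme

namespace Groth.Agent.FlatMorAIC

variable {S : Scheme.{u}}

/-- Functions on the points of `U` with values in algebraically closed residue fields. -/
abbrev Pts (U : S.Opens) : Type u := ∀ s : U, AlgebraicClosure (S.residueField s.1)

noncomputable instance algebraPts (U : S.Opens) : Algebra Γ(S, U) (Pts U) :=
  (RingHom.pi fun s : U => (algebraMap (S.residueField s.1) (AlgebraicClosure (S.residueField s.1))).comp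
    (S.evaluation U s.1 s.2).hom).toAlgebra

theorem algebraMap_pts_apply (U : S.Opens) (a : Γ(S, U)) (s : U) :
    algebraMap Γ(S, U) (Pts U) a s =
      algebraMap _ (AlgebraicClosure (S.residueField s.1)) (S.evaluation U s.1 s.2 a) := rfl

/-- Restriction of functions on points. -/
noncomputable def res {U V : S.Opens} (h : V ≤ U) : Pts U →+* Pts V :=
  RingHom.pi fun s => Pi.evalRingHom (fun t : U => AlgebraicClosure (S.residueField t.1)) ⟨s.1, h s.2⟩

theorem evaluation_res {U V : S.Opens} (h : V ≤ U) (a : Γ(S, U)) (s : S) (hs : s ∈ V) :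
    S.evaluation V s hs (S.presheaf.map (homOfLE h).op a) = S.evaluation U s (h hs) a := by
  show S.residue s (S.presheaf.germ V s hs (S.presheaf.map (homOfLE h).op a)) = _
  rw [TopCat.Presheaf.germ_res_apply]
  rfl

theorem res_algebraMap {U V : S.Opens} (h : V ≤ U) (a : Γ(S, U)) :
    res h (algebraMap Γ(S, U) (Pts U) a) =
      algebraMap Γ(S, V) (Pts V) (S.presheaf.map (homOfLE h).op a) := by
  funext s
  show algebraMap _ _ (S.evaluation U s.1 (h s.2) a) = _
  rw [algebraMap_pts_apply, evaluation_res]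

theorem res_mem {U V : S.Opens} (h : V ≤ U) {x : Pts U} (hx : IsIntegral Γ(S, U) x) :
    IsIntegral Γ(S, V) (res h x) := by
  obtain ⟨p, hp, hpx⟩ := hx
  refine ⟨p.map (S.presheaf.map (homOfLE h).op).hom, hp.map _, ?_⟩
  rw [Polynomial.eval₂_map, show (algebraMap Γ(S, V) (Pts V)).comp (S.presheaf.map (homOfLE h).op).hom =
    (res h).comp (algebraMap Γ(S, U) (Pts U)) from RingHom.ext fun a => (res_algebraMap h a).symm,
    ← Polynomial.hom_eval₂, hpx, map_zero]

/-- The integral closure of the structure presheaf in the functions on points. -/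
noncomputable def diagram (S : Scheme.{u}) : S.Opensᵒᵖ ⥤ CommRingCat.{u} where
  obj U := .of (integralClosure Γ(S, U.unop) (Pts U.unop))
  map {U V} i := CommRingCat.ofHom ((res i.unop.le).restrict _ _ fun x hx => res_mem i.unop.le hx)
  map_id U := by ext x; rfl
  map_comp i j := by ext x; rfl

/-- The structure map of the integral closure. -/
noncomputable def diagramMap (S : Scheme.{u}) : S.presheaf ⟶ diagram S where
  app U := CommRingCat.ofHom (algebraMap Γ(S, U.unop) (integralClosure Γ(S, U.unop) (Pts U.unop)))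
  naturality U V i := by
    ext a
    exact Subtype.ext (res_algebraMap i.unop.le a).symm

theorem isLocalization_res {U : S.Opens} (r : Γ(S, U)) :
    letI := (res (S.basicOpen_le r)).toAlgebra
    IsLocalization.Away (algebraMap Γ(S, U) (Pts U) r) (Pts (S.basicOpen r)) := by
  classical
  let := (res (S.basicOpen_le r)).toAlgebra
  have hne : ∀ (s : U), s.1 ∈ S.basicOpen r → algebraMap Γ(S, U) (Pts U) r s ≠ 0 := fun s hs => by
    rw [algebraMap_pts_apply, ne_eq, map_eq_zero]
    exact (S.evaluation_ne_zero_iff_mem_basicOpen _ _ _).2 hs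
  refine IsLocalization.Away.mk _ ?_ (fun z => ?_) fun a b hab => ?_
  · exact Pi.isUnit_iff.2 fun s => isUnit_iff_ne_zero.2 (hne ⟨s.1, S.basicOpen_le r s.2⟩ s.2)
  · refine ⟨0, fun t => if h : t.1 ∈ S.basicOpen r then z ⟨t.1, h⟩ else 0, ?_⟩
    rw [pow_zero, mul_one]
    funext s
    rw [RingHom.algebraMap_toAlgebra]
    show z s = dite (s.1 ∈ S.basicOpen r) _ _
    rw [dif_pos s.2]
  · refine ⟨1, ?_⟩
    funext t
    simp only [pow_one, Pi.mul_apply]
    by_cases h : t.1 ∈ S.basicOpen r
    · exact congrArg (_ * ·) (congrFun hab ⟨t.1, h⟩)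
    · rw [algebraMap_pts_apply, (S.evaluation_eq_zero_iff_notMem_basicOpen _ _ _).2 h, map_zero,
        zero_mul, zero_mul]

theorem coequifibered_diagramMap (S : Scheme.{u}) :
    ((AffineZariskiSite.toOpensFunctor S).op.whiskerLeft (diagramMap S)).Coequifibered := by
  refine AffineZariskiSite.coequifibered_iff_forall_isLocalizationAway.mpr fun U r => ?_
  let : Algebra (Pts U.1) (Pts (S.basicOpen r)) := (res (S.basicOpen_le r)).toAlgebra
  let : Algebra (integralClosure Γ(S, U.1) (Pts U.1))
      (integralClosure Γ(S, S.basicOpen r) (Pts (S.basicOpen r))) :=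
    ((diagram S).map (homOfLE (S.basicOpen_le r)).op).hom.toAlgebra
  have : IsLocalization.Away r Γ(S, S.basicOpen r) := U.2.isLocalization_basicOpen _
  have : IsLocalization.Away (algebraMap Γ(S, U.1) (Pts U.1) r) (Pts (S.basicOpen r)) :=
    isLocalization_res r
  let : Algebra Γ(S, U.1) (Pts (S.basicOpen r)) :=
    ((algebraMap Γ(S, S.basicOpen r) _).comp (algebraMap Γ(S, U.1) Γ(S, S.basicOpen r))).toAlgebra
  have : IsScalarTower Γ(S, U.1) Γ(S, S.basicOpen r) (Pts (S.basicOpen r)) := .of_algebraMap_eq' rfl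
  have : IsScalarTower Γ(S, U.1) (Pts U.1) (Pts (S.basicOpen r)) :=
    .of_algebraMap_eq fun a => (res_algebraMap (S.basicOpen_le r) a).symm
  have : IsScalarTower (integralClosure Γ(S, U.1) (Pts U.1))
      (integralClosure Γ(S, S.basicOpen r) (Pts (S.basicOpen r))) (Pts (S.basicOpen r)) :=
    .of_algebraMap_eq' rfl
  have : IsScalarTower Γ(S, U.1) (integralClosure Γ(S, U.1) (Pts U.1))
      (integralClosure Γ(S, S.basicOpen r) (Pts (S.basicOpen r))) :=
    .of_algebraMap_eq fun a => Subtype.ext (res_algebraMap (S.basicOpen_le r) a).symm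
  change IsLocalization.Away ((algebraMap Γ(S, U.1) (integralClosure Γ(S, U.1) (Pts U.1))) r)
    (integralClosure Γ(S, S.basicOpen r) (Pts (S.basicOpen r)))
  exact IsLocalization.Away.integralClosure r

variable (U : S.Opens)

theorem hasMonicRoots_integralClosure : HasMonicRoots (integralClosure Γ(S, U) (Pts U)) := by
  intro p hp hdeg
  have h : ∀ s : U, ∃ r : AlgebraicClosure (S.residueField s.1), (p.map ((Pi.evalRingHom (fun t : U =>
      AlgebraicClosure (S.residueField t.1)) s).comp
        (integralClosure Γ(S, U) (Pts U)).val.toRingHom)).IsRoot r := fun s => by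
    refine IsAlgClosed.exists_root _ ?_
    rw [Polynomial.degree_eq_natDegree (hp.map _).ne_zero, hp.natDegree_map]
    exact_mod_cast hdeg.ne'
  choose r hr using h
  have hr' : p.eval₂ (integralClosure Γ(S, U) (Pts U)).val.toRingHom r = 0 := funext fun s => by
    refine Eq.trans ?_ (hr s).eq_zero
    rw [Polynomial.eval_map]
    exact Polynomial.hom_eval₂ p _ (Pi.evalRingHom _ s) r
  have hri : IsIntegral Γ(S, U) r := isIntegral_trans (A := integralClosure Γ(S, U) (Pts U)) r ⟨p, hp, hr'⟩
  refine ⟨⟨r, hri⟩, Subtype.ext ?_⟩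
  show (integralClosure Γ(S, U) (Pts U)).val.toRingHom (p.eval _) = 0
  rw [← Polynomial.eval₂_at_apply]
  exact hr'

theorem isDomain_localization (P : Ideal (integralClosure Γ(S, U) (Pts U))) [P.IsPrime] :
    IsDomain (Localization.AtPrime P) := by
  classical
  have key : ∀ a b : integralClosure Γ(S, U) (Pts U), a * b = 0 →
      (∃ e ∉ P, e * a = 0) ∨ ∃ e ∉ P, e * b = 0 := fun a b hab => by
    let e : Pts U := fun s => if a.1 s = 0 then 0 else 1
    have he : IsIntegral Γ(S, U) e := ⟨Polynomial.X ^ 2 - Polynomial.X,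
      Polynomial.monic_X_pow_sub (Polynomial.degree_X_le.trans_lt (by norm_num)), by
        simp only [Polynomial.eval₂_sub, Polynomial.eval₂_X_pow, Polynomial.eval₂_X]
        funext s
        by_cases h : a.1 s = 0 <;> simp [e, h]⟩
    by_cases hP : (⟨e, he⟩ : integralClosure Γ(S, U) (Pts U)) ∈ P
    · refine .inl ⟨1 - ⟨e, he⟩, fun h => P.ne_top_iff_one.1 ‹P.IsPrime›.ne_top
        (by simpa using P.add_mem h hP), Subtype.ext (funext fun s => ?_)⟩
      show (1 - e s) * a.1 s = 0
      by_cases h : a.1 s = 0 <;> simp [e, h]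
    · refine .inr ⟨⟨e, he⟩, hP, Subtype.ext (funext fun s => ?_)⟩
      show e s * b.1 s = 0
      by_cases h : a.1 s = 0
      · simp [e, h]
      · have hs : a.1 s * b.1 s = 0 := congrFun (congrArg Subtype.val hab) s
        simp [(mul_eq_zero.1 hs).resolve_left h]
  have : NoZeroDivisors (Localization.AtPrime P) := ⟨fun {x y} hxy => by
    obtain ⟨a, s, rfl⟩ := IsLocalization.exists_mk'_eq P.primeCompl x
    obtain ⟨b, t, rfl⟩ := IsLocalization.exists_mk'_eq P.primeCompl y
    rw [← IsLocalization.mk'_mul, IsLocalization.mk'_eq_zero_iff] at hxy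
    obtain ⟨c, hc⟩ := hxy
    rw [IsLocalization.mk'_eq_zero_iff, IsLocalization.mk'_eq_zero_iff]
    rcases key a (c * b) (by rw [mul_left_comm]; exact hc) with ⟨e, he, h⟩ | ⟨e, he, h⟩
    · exact .inl ⟨⟨e, he⟩, h⟩
    · exact .inr ⟨⟨e, he⟩ * c, by rw [Submonoid.coe_mul, mul_assoc]; exact h⟩⟩
  exact NoZeroDivisors.to_isDomain (Localization.AtPrime P)

end Groth.Agent.FlatMorAIC
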