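import Groth.Agent.CAlgMisc2.Spread
import Mathlib.RingTheory.ZariskisMainTheorem
import Mathlib.RingTheory.Flat.Basic
import Mathlib.RingTheory.Polynomial.ScaleRoots
import Mathlib.RingTheory.Localization.Integral
import Mathlib.RingTheory.Spectrum.Prime.Topology
import Mathlib.RingTheory.RingHom.Flat

/-!
# Sections of flat quasi-finite algebras over rings in which monic polynomials have roots
-/

universe u

set_option autoImplicit false

open Polynomial

namespace Groth.Agent.FlatMorAIC

/-- Every monic polynomial of positive degree has a root. -/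
def HasMonicRoots (R : Type u) [CommRing R] : Prop :=
  ∀ p : R[X], p.Monic → 0 < p.natDegree → ∃ r, p.IsRoot r

variable {R : Type u} [CommRing R]

theorem HasMonicRoots.localization (h : HasMonicRoots R) (M : Submonoid R) {S : Type u}
    [CommRing S] [Algebra R S] [IsLocalization M S] : HasMonicRoots S := by
  intro p hp hdeg
  rcases subsingleton_or_nontrivial S with hS | hS
  · exact ⟨0, Subsingleton.elim _ _⟩
  obtain ⟨b, hb, hspec⟩ := IsLocalization.integerNormalization_spec M p
  have hlift : p.scaleRoots (algebraMap R S b) ∈ Polynomial.lifts (algebraMap R S) := by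
    rw [Polynomial.lifts_iff_coeff_lifts]
    intro k
    rw [coeff_scaleRoots]
    rcases lt_trichotomy k p.natDegree with hk | hk | hk
    · obtain ⟨j, hj⟩ := Nat.exists_eq_add_of_lt hk
      refine ⟨(IsLocalization.integerNormalization M p).coeff k * b ^ (p.natDegree - k - 1), ?_⟩
      rw [map_mul, map_pow, ← coeff_map, hspec, coeff_smul, Algebra.smul_def, mul_comm (algebraMap R S b),
        mul_assoc, ← pow_succ', show p.natDegree - k - 1 + 1 = p.natDegree - k by omega]
    · exact ⟨1, by rw [map_one, hk, Nat.sub_self, pow_zero, mul_one]; exact hp.symm⟩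
    · exact ⟨0, by rw [map_zero, coeff_eq_zero_of_natDegree_lt hk, zero_mul]⟩
  obtain ⟨q, hq, hqd, hqm⟩ := Polynomial.lifts_and_degree_eq_and_monic hlift
    ((monic_scaleRoots_iff _).2 hp)
  have hqn : q.natDegree = p.natDegree := by
    rw [natDegree_eq_of_degree_eq hqd, natDegree_scaleRoots]
  obtain ⟨r, hr⟩ := h q hqm (hqn ▸ hdeg)
  have hu : IsUnit (algebraMap R S b) := IsLocalization.map_units S ⟨b, hb⟩
  obtain ⟨u, hu⟩ := hu
  refine ⟨↑u⁻¹ * algebraMap R S r, ?_⟩
  have h1 : (p.scaleRoots (algebraMap R S b)).eval (algebraMap R S r) = 0 := by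
    rw [← hq, eval_map, eval₂_at_apply, hr.eq_zero, map_zero]
  rw [show algebraMap R S r = algebraMap R S b * (↑u⁻¹ * algebraMap R S r) by
      rw [← hu, ← mul_assoc, Units.mul_inv, one_mul], scaleRoots_eval_mul] at h1
  have hb' : IsUnit (algebraMap R S b) := ⟨u, hu⟩
  exact ((hb'.pow _).mul_right_eq_zero).1 h1

/-- Integral elements of a domain over a ring with roots of monic polynomials are in the range. -/
theorem mem_range_of_isIntegral (h : HasMonicRoots R) {E : Type u} [CommRing E] [IsDomain E]
    [Algebra R E] {e : E} (he : IsIntegral R e) : ∃ a, algebraMap R E a = e := by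
  suffices ∀ n, ∀ p : R[X], p.natDegree = n → p.Monic → aeval e p = 0 → ∃ a, algebraMap R E a = e by
    obtain ⟨p, hp, hpe⟩ := he
    exact this _ p rfl hp hpe
  intro n
  induction n with
  | zero =>
    intro p hn hp hpe
    rw [hp.natDegree_eq_zero.1 hn, map_one] at hpe
    exact absurd hpe one_ne_zero
  | succ n ih =>
    intro p hn hp hpe
    have : Nontrivial R := (algebraMap R E).domain_nontrivial
    obtain ⟨a, ha⟩ := h p hp (by omega)
    have hdiv := (mul_divByMonic_eq_iff_isRoot (a := a)).2 ha
    rw [← hdiv, map_mul, map_sub, aeval_X, aeval_C] at hpe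
    rcases mul_eq_zero.1 hpe with h0 | h0
    · exact ⟨a, (sub_eq_zero.1 h0).symm⟩
    · refine ih _ ?_ ?_ h0
      · rw [natDegree_divByMonic _ (monic_X_sub_C a), natDegree_X_sub_C, hn, Nat.add_sub_cancel]
      · exact (monic_X_sub_C a).of_mul_monic_left (hdiv.symm ▸ hp)

/-- A domain, of finite type and quasi-finite at a prime over the closed point, containing a local
ring with roots of monic polynomials, is that ring. -/
theorem bijective_of_quasiFiniteAt [IsLocalRing R] (h : HasMonicRoots R) {E : Type u} [CommRing E]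
    [IsDomain E] [Algebra R E] [Algebra.FiniteType R E] (hinj : Function.Injective (algebraMap R E))
    (q : Ideal E) [q.IsPrime] [Algebra.QuasiFiniteAt R q]
    (hq : q.comap (algebraMap R E) = IsLocalRing.maximalIdeal R) :
    Function.Bijective (algebraMap R E) := by
  refine ⟨hinj, fun x => ?_⟩
  obtain ⟨r, hrq, hr, hx⟩ := Algebra.zariskisMainProperty_iff.1
    (Algebra.ZariskisMainProperty.of_finiteType (R := R) q)
  obtain ⟨c, rfl⟩ := mem_range_of_isIntegral h hr
  have hc : IsUnit c := by
    by_contra hc
    exact hrq (show c ∈ q.comap (algebraMap R E) by rw [hq]; exact hc)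
  obtain ⟨m, hm⟩ := hx x
  obtain ⟨d, hd⟩ := mem_range_of_isIntegral h hm
  obtain ⟨v, hv⟩ := hc.pow m
  refine ⟨↑v⁻¹ * d, ?_⟩
  rw [map_mul, hd, ← map_pow, ← hv, ← mul_assoc, ← map_mul, Units.inv_mul, map_one, one_mul]

/-- A flat quasi-finite algebra over a local domain with roots of monic polynomials has a section
as soon as its closed fibre is not empty. -/
theorem exists_section [IsLocalRing R] [IsDomain R] (h : HasMonicRoots R) {D : Type u} [CommRing D]
    [Algebra R D] [Algebra.FiniteType R D] [Module.Flat R D] [Algebra.QuasiFinite R D]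
    (q : Ideal D) [q.IsPrime] (hq : q.comap (algebraMap R D) = IsLocalRing.maximalIdeal R) :
    Nonempty (D →ₐ[R] R) := by
  have : q.LiesOver (IsLocalRing.maximalIdeal R) := ⟨hq.symm⟩
  obtain ⟨Q, hQq, hQ, hQ0⟩ := Ideal.exists_ideal_le_liesOver_of_le (R := R) (S := D)
    (p := (⊥ : Ideal R)) (q := IsLocalRing.maximalIdeal R) q bot_le
  have hinj : Function.Injective (algebraMap R (D ⧸ Q)) := by
    rw [injective_iff_map_eq_zero]
    intro a ha
    rw [IsScalarTower.algebraMap_apply R D (D ⧸ Q), Ideal.Quotient.algebraMap_eq,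
      Ideal.Quotient.eq_zero_iff_mem] at ha
    exact (Ideal.mem_of_liesOver Q (⊥ : Ideal R) a).2 ha
  have : (q.map (Ideal.Quotient.mk Q)).IsPrime :=
    Ideal.map_isPrime_of_surjective Ideal.Quotient.mk_surjective (by rwa [Ideal.mk_ker])
  let e := AlgEquiv.ofBijective (Algebra.ofId R (D ⧸ Q)) (bijective_of_quasiFiniteAt h hinj
    (q.map (Ideal.Quotient.mk Q)) (by
      rw [IsScalarTower.algebraMap_eq R D (D ⧸ Q), ← Ideal.comap_comap, Ideal.Quotient.algebraMap_eq,
        Ideal.comap_map_of_surjective _ Ideal.Quotient.mk_surjective, ← RingHom.ker_eq_comap_bot,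
        Ideal.mk_ker, sup_eq_left.2 hQq, hq]))
  exact ⟨e.symm.toAlgHom.comp (Ideal.Quotient.mkₐ R Q)⟩

open TensorProduct in
/-- An algebra map to a principal localisation around a prime, from a flat quasi-finite finitely
presented algebra with a prime over the same point. -/
theorem exists_algHom_away (h : HasMonicRoots R)
    (hdom : ∀ (P : Ideal R) [P.IsPrime], IsDomain (Localization.AtPrime P)) {A C : Type u}
    [CommRing A] [CommRing C] [Algebra A R] [Algebra A C] [Algebra.FinitePresentation A C]
    [Module.Flat A C] [Algebra.QuasiFinite A C] (P : Ideal R) [P.IsPrime] (Q : Ideal C) [Q.IsPrime]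
    (hPQ : P.comap (algebraMap A R) = Q.comap (algebraMap A C)) :
    ∃ (f : R) (_ : f ∉ P) (_ : C →ₐ[A] Localization.Away f), True := by
  let L := Localization.AtPrime P
  have : IsDomain L := hdom P
  obtain ⟨x, hx₁⟩ : ∃ q : PrimeSpectrum (L ⊗[A] C),
      q.asIdeal.comap (algebraMap L (L ⊗[A] C)) = IsLocalRing.maximalIdeal L := by
    let p := P.comap (algebraMap A R)
    let ιP : p.ResidueField →ₐ[A] P.ResidueField :=
      Ideal.ResidueField.mapₐ p P (Algebra.ofId A R) rfl
    let ιQ : p.ResidueField →ₐ[A] Q.ResidueField :=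
      Ideal.ResidueField.mapₐ p Q (Algebra.ofId A C) hPQ
    algebraize [ιP.toRingHom, ιQ.toRingHom]
    have : IsScalarTower A p.ResidueField P.ResidueField :=
      .of_algebraMap_eq fun a => (ιP.commutes a).symm
    have : IsScalarTower A p.ResidueField Q.ResidueField :=
      .of_algebraMap_eq fun a => (ιQ.commutes a).symm
    let g : L ⊗[A] C →+* P.ResidueField ⊗[p.ResidueField] Q.ResidueField :=
      (Algebra.TensorProduct.lift
        ((Algebra.TensorProduct.includeLeft (R := p.ResidueField) (S := P.ResidueField)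
          (A := P.ResidueField) (B := Q.ResidueField)).restrictScalars A |>.comp
            (IsScalarTower.toAlgHom A L P.ResidueField))
        ((Algebra.TensorProduct.includeRight (R := p.ResidueField) (A := P.ResidueField)
          (B := Q.ResidueField)).restrictScalars A |>.comp (IsScalarTower.toAlgHom A C Q.ResidueField))
        fun _ _ => .all _ _).toRingHom
    obtain ⟨M, hM⟩ := Ideal.exists_maximal (P.ResidueField ⊗[p.ResidueField] Q.ResidueField)
    refine ⟨⟨M.comap g, inferInstance⟩, le_antisymm (IsLocalRing.le_maximalIdeal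
      (Ideal.IsPrime.ne_top inferInstance)) fun a ha => ?_⟩
    show g (a ⊗ₜ[A] (1 : C)) ∈ M
    have h0 : algebraMap L P.ResidueField a = 0 := Ideal.Quotient.eq_zero_iff_mem.2 ha
    have h1 : g (a ⊗ₜ[A] (1 : C)) = 0 := by
      simp [g, h0]
    rw [h1]
    exact zero_mem _
  obtain ⟨σ⟩ := exists_section (h.localization P.primeCompl (S := L)) x.asIdeal hx₁
  obtain ⟨f, hf, φ₁, -⟩ := CAlgMisc2.exists_lift_away P
    ((σ.restrictScalars A).comp Algebra.TensorProduct.includeRight)
  exact ⟨f, hf, φ₁, trivial⟩

end Groth.Agent.FlatMorAIC
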