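import Groth.Agent.FlatMorAIC.Algebra
import Groth.Agent.FlatMorSlice.Cover
import Groth.Agent.CAlgMisc2.Spread

/-!
# An integral surjection trivialising fppf covers Zariski locally
-/

universe u

set_option autoImplicit false
set_option backward.isDefEq.respectTransparency false

open CategoryTheory Opposite AlgebraicGeometry AlgebraicGeometry.Scheme Limits

namespace Groth.Agent.FlatMorAIC

variable (S : Scheme.{u})

/-- The gluing data of the integral closure. -/
noncomputable def glueData :=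
  AffineZariskiSite.relativeGluingData (coequifibered_diagramMap S)

instance : ((glueData S).functor ⋙ Scheme.forget).IsLocallyDirected :=
  Cover.RelativeGluingData.instIsLocallyDirectedI₀CompFunctorForgetOfIsThin ..

/-- The spectrum of the integral closure. -/
noncomputable def total : Scheme.{u} := (glueData S).glued

/-- Its structure map. -/
noncomputable def toBase : total S ⟶ S := (glueData S).toBase

variable {S} (U : S.affineOpens)

/-- The chart over an affine open. -/
noncomputable def chart : Spec (.of (integralClosure Γ(S, U.1) (Pts U.1))) ⟶ total S :=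
  (glueData S).cover.f U

theorem chart_toBase : chart U ≫ toBase S =
    Spec.map ((diagramMap S).app (.op U.1)) ≫ U.2.fromSpec :=
  colimit.ι_desc _ _

instance : IsOpenImmersion (chart U) := (glueData S).cover.map_prop U

theorem preimage_toBase : toBase S ⁻¹ᵁ U.1 = (chart U).opensRange := by
  simpa using! (glueData S).toBase_preimage_eq_opensRange_ι U

instance : IsIntegralHom (toBase S) := by
  rw [IsZariskiLocalAtTarget.iff_of_iSup_eq_top (P := @IsIntegralHom) _
    (iSup_affineOpens_eq_top _)]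
  intro U
  let e := IsOpenImmersion.isoOfRangeEq (toBase S ⁻¹ᵁ U.1).ι (chart U)
      (by simpa using congr($(preimage_toBase U).1))
  rw [← MorphismProperty.cancel_left_of_respectsIso @IsIntegralHom e.inv,
    ← MorphismProperty.cancel_right_of_respectsIso @IsIntegralHom _ U.2.isoSpec.hom]
  have : ((diagramMap S).app (.op U.1)).hom.IsIntegral :=
    (algebraMap_isIntegral_iff (R := Γ(S, U.1))
      (A := integralClosure Γ(S, U.1) (Pts U.1))).mpr inferInstance
  convert! IsIntegralHom.SpecMap_iff.mpr this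
  rw [← cancel_mono U.2.fromSpec]
  simp [IsAffineOpen.isoSpec_hom, e, chart_toBase]

instance : Surjective (toBase S) := ⟨fun s => by
  obtain ⟨_, ⟨U, (hU : IsAffineOpen U), rfl⟩, hs, -⟩ := S.isBasis_affineOpens.exists_subset_of_mem_open
    (Set.mem_univ s) isOpen_univ
  let V : S.affineOpens := ⟨U, hU⟩
  let φ : integralClosure Γ(S, U) (Pts U) →+* AlgebraicClosure (S.residueField s) :=
    (Pi.evalRingHom (fun t : U => AlgebraicClosure (S.residueField t.1)) ⟨s, hs⟩).comp
      (integralClosure Γ(S, U) (Pts U)).val.toRingHom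
  refine ⟨chart V ⟨RingHom.ker φ, RingHom.ker_isPrime φ⟩, ?_⟩
  rw [← Scheme.Hom.comp_apply, chart_toBase, Scheme.Hom.comp_apply]
  refine Eq.trans (congrArg hU.fromSpec (PrimeSpectrum.ext ?_)) (hU.fromSpec_primeIdealOf ⟨s, hs⟩)
  ext a
  show algebraMap Γ(S, U) (Pts U) a ⟨s, hs⟩ = 0 ↔ a ∈ (hU.primeIdealOf ⟨s, hs⟩).asIdeal
  rw [algebraMap_pts_apply, map_eq_zero, S.evaluation_eq_zero_iff_notMem_basicOpen,
    ← not_not (a := a ∈ (hU.primeIdealOf ⟨s, hs⟩).asIdeal), ← PrimeSpectrum.mem_basicOpen,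
    ← hU.fromSpec_preimage_basicOpen, Scheme.Hom.mem_preimage, hU.fromSpec_primeIdealOf]⟩

/-- Sections of flat finitely presented morphisms exist Zariski locally on the total space. -/
theorem exists_lift {S' : Scheme.{u}} (g : S' ⟶ S) [Flat g] [LocallyOfFinitePresentation g]
    [Surjective g] (t : total S) :
    ∃ (V : (total S).Opens) (r : ↑V ⟶ S'), t ∈ V ∧ r ≫ g = V.ι ≫ toBase S := by
  obtain ⟨x, hx⟩ := Surjective.surj (f := g) (toBase S t)
  obtain ⟨T, rT, _, h₁, h₂, h₃, y, hy⟩ := FlatMorSlice.exists_slice_scheme g x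
  obtain ⟨_, ⟨U, (hU : IsAffineOpen U), rfl⟩, hxU, -⟩ := S.isBasis_affineOpens.exists_subset_of_mem_open
    (Set.mem_univ (toBase S t)) isOpen_univ
  let h := rT ≫ g
  have hyx : h y = toBase S t := hy.trans hx
  obtain ⟨_, ⟨W, (hW : IsAffineOpen W), rfl⟩, hyW, hWU⟩ := T.isBasis_affineOpens.exists_subset_of_mem_open
    (show y ∈ h ⁻¹ᵁ U by rw [Scheme.Hom.mem_preimage, hyx]; exact hxU) (h ⁻¹ᵁ U).isOpen
  let e : W ≤ h ⁻¹ᵁ U := hWU
  let A := Γ(S, U)
  let R := integralClosure A (Pts U)
  let φ : A ⟶ Γ(T, W) := h.appLE U W e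
  algebraize [φ.hom]
  have : Algebra.FinitePresentation A Γ(T, W) :=
    LocallyOfFinitePresentation.finitePresentation_appLE h hU hW e
  have : Module.Flat A Γ(T, W) := Flat.flat_appLE h hU hW e
  have : Algebra.QuasiFinite A Γ(T, W) := LocallyQuasiFinite.quasiFinite_appLE hU hW e
  -- the prime of `t`
  have htU : t ∈ (chart ⟨U, hU⟩).opensRange := preimage_toBase ⟨U, hU⟩ ▸ hxU
  obtain ⟨P, rfl⟩ := htU
  have hP : P.asIdeal.comap (algebraMap A R) = (hU.primeIdealOf ⟨_, hxU⟩).asIdeal := by
    refine congrArg PrimeSpectrum.asIdeal (hU.fromSpec.isOpenEmbedding.injective ?_ :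
      Spec.map ((diagramMap S).app (.op U)) P = _)
    rw [← Scheme.Hom.comp_apply, ← chart_toBase ⟨U, hU⟩, hU.fromSpec_primeIdealOf]
    rfl
  have hy' : (hW.primeIdealOf ⟨y, hyW⟩).asIdeal.comap (algebraMap A Γ(T, W)) =
      (hU.primeIdealOf ⟨_, hxU⟩).asIdeal := by
    refine congrArg PrimeSpectrum.asIdeal (hU.fromSpec.isOpenEmbedding.injective ?_ :
      Spec.map φ (hW.primeIdealOf ⟨y, hyW⟩) = _)
    rw [← Scheme.Hom.comp_apply, hU.SpecMap_appLE_fromSpec h hW e, Scheme.Hom.comp_apply,
      hW.fromSpec_primeIdealOf, hU.fromSpec_primeIdealOf]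
    exact hyx
  obtain ⟨f, hf, ψ, hψ⟩ : ∃ (f : R) (_ : f ∉ P.asIdeal) (ψ : Γ(T, W) →ₐ[A] Localization.Away f), True :=
    exists_algHom_away (hasMonicRoots_integralClosure U) (isDomain_localization U) P.asIdeal
      (hW.primeIdealOf ⟨y, hyW⟩).asIdeal (hP.trans hy'.symm)
  let j : Spec (.of (Localization.Away f)) ⟶ total S :=
    Spec.map (CommRingCat.ofHom (algebraMap R (Localization.Away f))) ≫ chart ⟨U, hU⟩
  have : IsOpenImmersion (Spec.map (CommRingCat.ofHom (algebraMap R (Localization.Away f)))) :=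
    IsOpenImmersion.of_isLocalization f
  refine ⟨j.opensRange, j.isoOpensRange.inv ≫ Spec.map (CommRingCat.ofHom ψ.toRingHom) ≫ hW.fromSpec ≫ rT,
    ?_, ?_⟩
  · obtain ⟨P', hP'⟩ : P ∈ Set.range (PrimeSpectrum.comap (algebraMap R (Localization.Away f))) := by
      rw [PrimeSpectrum.localization_away_comap_range _ f]; exact hf
    exact ⟨P', congrArg (chart ⟨U, hU⟩) hP'⟩
  · rw [← cancel_epi j.isoOpensRange.hom]
    simp only [Category.assoc, Iso.hom_inv_id_assoc, Scheme.Hom.isoOpensRange_hom_ι_assoc]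
    show Spec.map _ ≫ hW.fromSpec ≫ h = j ≫ toBase S
    rw [← hU.SpecMap_appLE_fromSpec h hW e, ← Category.assoc, ← Spec.map_comp]
    simp only [j, Category.assoc, chart_toBase]
    rw [← Category.assoc, ← Spec.map_comp]
    congr 2
    ext a
    exact ψ.commutes a

end Groth.Agent.FlatMorAIC
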